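import Groth.Agent.ModelDual.Extend
import Groth.Agent.SiteBase.ModCoh
import Groth.Agent.ProperFin.LES

/-!
# The pairing of `H⁰(O)` with `H¹(ω)` for a dualizing pair over a domain
-/

set_option autoImplicit false
set_option linter.style.haveILetI false
set_option backward.isDefEq.respectTransparency false
set_option maxHeartbeats 1000000

universe u

open CategoryTheory CategoryTheory.Limits AlgebraicGeometry TopologicalSpace

noncomputable section

namespace Groth.Agent.ModelDual

open Groth.Agent.CurveLib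

variable (R : Type u) [CommRing R] {X : Scheme.{u}} [X.Over (Spec (CommRingCat.of R))]

theorem secOf_hMap' {M N : X.Modules} (f : M ⟶ N) (c : Coh.HH X M 0) :
    secOf N (hMap (k := R) f 0 c) = f.app ⊤ (secOf M c) := by
  show CohBase.H0Equiv (⊤ : X.Opens) (Coh.toAb N) (CohBase.HEquiv _ 0 (Sheaf.H.map _ 0 c)) = _
  rw [CohBase.HEquiv_map, CohBase.H0Equiv_hmap]
  rfl

theorem secOf_smulAb (N : X.Modules) (γ : Γ(X, ⊤)) (c : Coh.HH X N 0) :
    secOf N (Sheaf.H.map (Coh.smulAb N γ) 0 c) = γ • secOf N c := by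
  show CohBase.H0Equiv (⊤ : X.Opens) (Coh.toAb N) (CohBase.HEquiv _ 0 (Sheaf.H.map _ 0 c)) = _
  rw [CohBase.HEquiv_map, CohBase.H0Equiv_hmap, Coh.smulAb_app]
  exact congrArg (fun a : Γ(X, ⊤) => a • secOf N c) (ConcreteCategory.congr_hom (X.presheaf.map_id _) _)

/-- Multiplication by the function of a class of the structure sheaf. -/
def mulC (ω : X.Modules) (n : ℕ) (c : Coh.HH X (Coh.structureModule X) 0) : Coh.HH X ω n →+ Coh.HH X ω n :=
  Sheaf.H.map (Coh.smulAb ω (show Γ(X, ⊤) from secOf (Coh.structureModule X) c)) n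

variable {ω : X.Modules}

theorem mulC_add (c d : Coh.HH X (Coh.structureModule X) 0) (x : Coh.HH X ω 1) :
    mulC ω 1 (c + d) x = mulC ω 1 c x + mulC ω 1 d x := by
  show Sheaf.H.map _ 1 x = _
  rw [map_add]
  exact (congrArg (fun e => Sheaf.H.map e 1 x) (Coh.smulAb_add ω _ _)).trans (Sheaf.H.map_add_apply _ _ x)

theorem mulC_smul (a : R) (c : Coh.HH X (Coh.structureModule X) 0) (x : Coh.HH X ω 1) :
    mulC ω 1 (a • c) x = a • mulC ω 1 c x := by
  let γ : Γ(X, ⊤) := secOf (Coh.structureModule X) c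
  let a' : Γ(X, ⊤) := Coh.toGlobal (X ↘ Spec (CommRingCat.of R)) a
  have h1 : (show Γ(X, ⊤) from secOf (Coh.structureModule X) (a • c)) = a' * γ :=
    secOf_smulAb (Coh.structureModule X) a' c
  show Sheaf.H.map (Coh.smulAb ω _) 1 x = Sheaf.H.map (Coh.smulAb ω a') 1 (Sheaf.H.map (Coh.smulAb ω γ) 1 x)
  rw [← Sheaf.H.map_comp_apply, h1]
  exact congrArg (fun e => Sheaf.H.map e 1 x) (Coh.smulAb_mul ω a' γ)

theorem smul_mulC (a : R) (c : Coh.HH X (Coh.structureModule X) 0) (x : Coh.HH X ω 1) :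
    mulC ω 1 c (a • x) = a • mulC ω 1 c x := by
  show Sheaf.H.map _ 1 (Sheaf.H.map (Coh.smulAb ω _) 1 x) = Sheaf.H.map (Coh.smulAb ω _) 1 (Sheaf.H.map _ 1 x)
  rw [← Sheaf.H.map_comp_apply, ← Sheaf.H.map_comp_apply, ← Coh.smulAb_mul, ← Coh.smulAb_mul]
  exact congrArg (fun e => Sheaf.H.map (Coh.smulAb ω e) 1 x) (mul_comm (G := Γ(X, ⊤)) _ _)

/-- `x ↦ (c ↦ tr (c • x))`. -/
def pairing (tr : Coh.HH X ω 1 →ₗ[R] R) :
    Coh.HH X ω 1 →ₗ[R] Module.Dual R (Coh.HH X (Coh.structureModule X) 0) where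
  toFun x :=
    { toFun := fun c => tr (mulC ω 1 c x)
      map_add' := fun c d => by rw [mulC_add, map_add]
      map_smul' := fun a c => by rw [mulC_smul R, map_smul]; rfl }
  map_add' x y := LinearMap.ext fun c => by
    show tr (mulC ω 1 c (x + y)) = tr (mulC ω 1 c x) + tr (mulC ω 1 c y)
    rw [map_add, map_add]
  map_smul' a x := LinearMap.ext fun c => by
    show tr (mulC ω 1 c (a • x)) = a • tr (mulC ω 1 c x)
    rw [smul_mulC R, map_smul]

/-- The pairing is injective when `H¹(O)` is free. -/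
theorem injective_pairing [IsDomain R] [IsPrincipalIdealRing R] [EnoughInjectives X.Modules]
    [Module.Finite R (Coh.HH X (Coh.structureModule X) 1)] [Module.Free R (Coh.HH X (Coh.structureModule X) 1)]
    (tr : Coh.HH X ω 1 →ₗ[R] R) (hω : Canon.IsRDualOver R X 1 ω tr) : Function.Injective (pairing R tr) := by
  refine (injective_iff_map_eq_zero _).2 fun x hx => ?_
  let I := Injective.under ω
  let T := DevLib.cokerSeq (Injective.ι ω)
  have hT : T.ShortExact := DevLib.cokerSeq_shortExact _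
  haveI : Subsingleton (Coh.HH X T.X₂ 1) :=
    SiteBase.subsingleton_H_of_isTotallyAcyclic (SiteBase.isTotallyAcyclic_toSheaf_injective I) 0
  obtain ⟨σ, hσ⟩ : ∃ σ, hδ (k := R) hT 0 σ = x := by
    have h : x ∈ LinearMap.ker (hMap (k := R) T.f 1) := Subsingleton.elim _ _
    rwa [← range_hδ hT 0] at h
  let t : Coh.structureModule X ⟶ T.X₃ := DCohLib.secHom T.X₃ (secOf T.X₃ σ)
  haveI := hT.epi_g
  haveI := hT.mono_f
  let i : ω ⟶ Limits.pullback T.g t := pullback.lift T.f 0 (by rw [T.zero, zero_comp])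
  let E := ShortComplex.mk i (pullback.snd T.g t) (pullback.lift_snd _ _ _)
  haveI hmono : Mono i := mono_of_mono_fac (pullback.lift_fst _ _ _ : i ≫ pullback.fst T.g t = T.f)
  have hE : E.ShortExact :=
    { exact := ShortComplex.exact_of_f_is_kernel _ (KernelFork.IsLimit.ofι' i (pullback.lift_snd _ _ _) fun k hk =>
        ⟨hT.exact.lift (k ≫ pullback.fst T.g t) (by rw [Category.assoc, pullback.condition, ← Category.assoc]
                                                    rw [hk, zero_comp]), by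
          refine pullback.hom_ext ?_ ?_
          · rw [Category.assoc, pullback.lift_fst]
            exact hT.exact.lift_f _ _
          · rw [Category.assoc, pullback.lift_snd, comp_zero]
            exact hk.symm⟩) }
  let φ : E ⟶ T := ⟨𝟙 ω, pullback.fst T.g t, t, (Category.id_comp _).trans (pullback.lift_fst _ _ _).symm,
    pullback.condition.symm.trans rfl |>.symm⟩
  have hT' : (T.map (QCohLib.toAbF X)).ShortExact := QCohLib.toAb_shortExact hT
  have hE' : (E.map (QCohLib.toAbF X)).ShortExact := QCohLib.toAb_shortExact hE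
  have hδeq : ∀ c, hδ (k := R) hE 0 c = hδ (k := R) hT 0 (hMap (k := R) t 0 c) := fun c => by
    have h := ShortComplex.ShortExact.extClass_naturality hE' hT'
      ((QCohLib.toAbF X).mapShortComplex.map φ)
    have h' := congrArg (fun e => c.comp e rfl) h
    have e1 : hE'.extClass.comp (Abelian.Ext.mk₀ ((QCohLib.toAbF X).mapShortComplex.map φ).τ₁) (add_zero 1) =
        hE'.extClass := by
      show hE'.extClass.comp (Abelian.Ext.mk₀ ((QCohLib.toAbF X).map (𝟙 ω))) (add_zero 1) = _
      rw [CategoryTheory.Functor.map_id]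
      exact Abelian.Ext.comp_mk₀_id _
    rw [e1] at h
    show c.comp hE'.extClass rfl = (c.comp (Abelian.Ext.mk₀ ((QCohLib.toAbF X).map t)) (add_zero 0)).comp hT'.extClass rfl
    rw [Abelian.Ext.comp_assoc_of_second_deg_zero, h]
    rfl
  have hδmul : ∀ c, hδ (k := R) hE 0 c = mulC ω 1 c x := fun c => by
    rw [hδeq]
    have h1 : hMap (k := R) t 0 c =
        Sheaf.H.map (Coh.smulAb T.X₃ (show Γ(X, ⊤) from secOf (Coh.structureModule X) c)) 0 σ := by
      refine (secOf T.X₃).injective ?_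
      rw [secOf_hMap', secOf_smulAb]
      let γ : Γ(X, ⊤) := secOf (Coh.structureModule X) c
      show t.app ⊤ γ = γ • secOf T.X₃ σ
      have h2 : t.app ⊤ (γ • (1 : Γ(X, ⊤))) = γ • t.app ⊤ (1 : Γ(X, ⊤)) := t.app_smul (U := ⊤) γ (1 : Γ(X, ⊤))
      rw [smul_eq_mul, mul_one] at h2
      rw [h2]
      exact congrArg (γ • ·) (AmpleLib.sec_secHom (L := T.X₃) _)
    rw [h1, ← hσ]
    have h3 := ShortComplex.ShortExact.extClass_naturality hT' hT'
      (ProperFin.smulSeq T (show Γ(X, ⊤) from secOf (Coh.structureModule X) c))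
    show (σ.comp (Abelian.Ext.mk₀ _) (add_zero 0)).comp (QCohLib.toAb_shortExact hT).extClass rfl =
      (σ.comp (QCohLib.toAb_shortExact hT).extClass rfl).comp (Abelian.Ext.mk₀ _) (add_zero 1)
    rw [Abelian.Ext.comp_assoc_of_second_deg_zero, Abelian.Ext.comp_assoc_of_third_deg_zero]
    exact congrArg (fun e => σ.comp e rfl) h3.symm
  -- the trace extends to the extension
  let ν : Coh.HH X ω 1 →ₗ[R] Coh.HH X E.X₂ 1 := hMap (k := R) i 1
  have hker : LinearMap.ker ν ≤ LinearMap.ker tr := fun y hy => by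
    rw [show LinearMap.ker ν = LinearMap.range (hδ (k := R) hE 0) from (range_hδ hE 0).symm] at hy
    obtain ⟨c, rfl⟩ := hy
    rw [LinearMap.mem_ker, hδmul]
    exact DFunLike.congr_fun hx c
  let g : Coh.HH X E.X₂ 1 →ₗ[R] Coh.HH X (Coh.structureModule X) 1 := hMap (k := R) E.g 1
  haveI : _root_.IsNoetherian R (Coh.HH X (Coh.structureModule X) 1) := isNoetherian_of_isNoetherianRing_of_finite R _
  haveI : Module.Finite R (LinearMap.range g) := Module.Finite.iff_fg.2 (IsNoetherian.noetherian _)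
  haveI : Module.Free R (LinearMap.range g) := Module.free_of_finite_type_torsion_free'
  obtain ⟨s, hs⟩ := Module.projective_lifting_property g.rangeRestrict LinearMap.id g.surjective_rangeRestrict
  have hs' : ∀ y, g (s y) = (y : LinearMap.range g).1 := fun y => congrArg Subtype.val (DFunLike.congr_fun hs y)
  have hrange : ∀ y, y - s (g.rangeRestrict y) ∈ LinearMap.range ν := fun y => by
    have h : LinearMap.range ν = LinearMap.ker g := range_hMap_f hE 1
    rw [h, LinearMap.mem_ker, map_sub, hs']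
    exact sub_self (g y)
  let ρ : Coh.HH X E.X₂ 1 →ₗ[R] LinearMap.range ν :=
    (LinearMap.id - s ∘ₗ g.rangeRestrict).codRestrict _ hrange
  let tr' : Coh.HH X E.X₂ 1 →ₗ[R] R :=
    Submodule.liftQ _ tr hker ∘ₗ ν.quotKerEquivRange.symm.toLinearMap ∘ₗ ρ
  haveI := hω.1
  have hEq : Coh.IsQCoh E.X₂ := QCohLib.isQCoh_X₂ hE hω.1 inferInstance
  obtain ⟨r, hr⟩ := (hω.2 E.X₂ hEq).2 tr'
  have htr' : ∀ y, tr' (ν y) = tr y := fun y => by
    have h0 : g.rangeRestrict (ν y) = 0 := Subtype.ext (by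
      show g (ν y) = 0
      have h : ν y ∈ LinearMap.ker g := (range_hMap_f (k := R) hE 1).le ⟨y, rfl⟩
      exact h)
    have h1 : ρ (ν y) = ν.quotKerEquivRange (Submodule.Quotient.mk y) := Subtype.ext (by
      show ν y - s (g.rangeRestrict (ν y)) = ν y
      rw [h0, map_zero, sub_zero])
    show Submodule.liftQ _ tr hker (ν.quotKerEquivRange.symm (ρ (ν y))) = tr y
    rw [h1, LinearEquiv.symm_apply_apply]
    rfl
  have hret : i ≫ r = 𝟙 ω := (hω.2 ω hω.1).1 (LinearMap.ext fun y => by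
    show tr (Canon.HHlin R (i ≫ r) 1 y) = tr (Canon.HHlin R (𝟙 ω) 1 y)
    have e1 : Canon.HHlin R (i ≫ r) 1 y = Canon.HHlin R r 1 (ν y) := by
      show Sheaf.H.map ((SheafOfModules.toSheaf X.ringCatSheaf).map (i ≫ r)) 1 y = _
      rw [Functor.map_comp, Sheaf.H.map_comp_apply]
      rfl
    have e2 : Canon.HHlin R (𝟙 ω) 1 y = y := by
      show Sheaf.H.map ((SheafOfModules.toSheaf X.ringCatSheaf).map (𝟙 ω)) 1 y = y
      rw [CategoryTheory.Functor.map_id, Sheaf.H.map_id_apply]
    rw [e1, e2]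
    exact (DFunLike.congr_fun hr _).trans (htr' y))
  let one : Coh.HH X (Coh.structureModule X) 0 := (secOf (Coh.structureModule X)).symm (1 : Γ(X, ⊤))
  have h1 : mulC ω 1 one x = x := by
    show Sheaf.H.map (Coh.smulAb ω _) 1 x = x
    rw [(secOf (Coh.structureModule X)).apply_symm_apply]
    exact (congrArg (fun e => Sheaf.H.map e 1 x) (Coh.smulAb_one ω)).trans (Sheaf.H.map_id_apply _)
  have h2 : ν x = 0 := by
    have h : x ∈ LinearMap.range (hδ (k := R) hE 0) := ⟨one, (hδmul one).trans h1⟩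
    rw [range_hδ hE 0] at h
    exact h
  have h3 : Sheaf.H.map ((QCohLib.toAbF X).map (i ≫ r)) 1 x = x := by
    rw [hret, CategoryTheory.Functor.map_id, Sheaf.H.map_id_apply]
  rw [Functor.map_comp, Sheaf.H.map_comp_apply] at h3
  rw [← h3]
  exact (congrArg _ h2).trans (map_zero _)

end Groth.Agent.ModelDual
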