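import Groth.Prelude.Def_Canon
import Groth.Agent.S1575
import Groth.Agent.CurveLib.Euler
import Groth.Agent.CohBase.Localization
import Groth.Agent.QCohLib.Exact
import Groth.Agent.VBLib.Secant
import Groth.Agent.TwistShriek.DualPair

/-!
# Extension of a dualizing sheaf across finitely many closed points of the closed fibre
-/

set_option autoImplicit false
set_option linter.style.haveILetI false
set_option backward.isDefEq.respectTransparency false
set_option maxHeartbeats 1000000

universe u

open CategoryTheory CategoryTheory.Limits AlgebraicGeometry TopologicalSpace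

noncomputable section

namespace Groth.Agent.ModelDual

variable {X : Scheme.{u}}

theorem dim_le_zero_of_finite {S : Set X} (hS : S.Finite) (hcl : ∀ x ∈ S, IsClosed ({x} : Set X)) :
    topologicalKrullDim S ≤ 0 := by
  haveI := hS.to_subtype
  haveI : T1Space S := ⟨fun x => by
    have h : ({x} : Set S) = Subtype.val ⁻¹' {x.1} := Set.ext fun y => by simp [Subtype.ext_iff]
    exact h ▸ (hcl x.1 x.2).preimage continuous_subtype_val⟩
  refine Order.krullDim_nonpos_iff_forall_isMax.2 fun A B hAB y hy => ?_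
  obtain ⟨a, ha⟩ := A.isIrreducible.nonempty
  have h1 : ∀ z ∈ (B : Set S), z = a := fun z hz => by
    by_contra hne
    obtain ⟨w, -, hwa, hwb⟩ := B.isIrreducible.isPreirreducible {a} {z} (isOpen_discrete _) (isOpen_discrete _)
      ⟨a, hAB ha, rfl⟩ ⟨z, hz, rfl⟩
    exact hne (hwb.symm.trans hwa)
  exact h1 y hy ▸ ha

theorem bijective_of_isIso_unit (ω : X.Modules) (U V : X.Opens)
    (h : IsIso ((Scheme.Modules.restrictAdjunction U.ι).unit.app ω)) :
    Function.Bijective (ω.presheaf.map (homOfLE (inf_le_left : V ⊓ U ≤ V)).op).hom := by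
  haveI := h
  let j := U.ι
  have heq : j ''ᵁ (j ⁻¹ᵁ V) = V ⊓ U := by
    rw [j.image_preimage_eq_opensRange_inf, Scheme.Opens.opensRange_ι, inf_comm]
  haveI : IsIso (((Scheme.Modules.restrictAdjunction j).unit.app ω).app V) := inferInstance
  have h1 : Function.Bijective (((Scheme.Modules.restrictAdjunction j).unit.app ω).app V) :=
    ConcreteCategory.bijective_of_isIso _
  rw [Scheme.Modules.restrictAdjunction_unit_app_app] at h1
  have h2 : (homOfLE (inf_le_left : V ⊓ U ≤ V)).op = (homOfLE (j.image_preimage_le V)).op ≫ (eqToHom heq.symm).op :=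
    Subsingleton.elim _ _
  show Function.Bijective (ω.presheaf.map (homOfLE (inf_le_left : V ⊓ U ≤ V)).op)
  rw [h2, Functor.map_comp]
  exact (ConcreteCategory.bijective_of_isIso (ω.presheaf.map (eqToHom heq.symm).op)).comp h1

variable (R : Type u) [CommRing R] [X.Over (Spec (CommRingCat.of R))]

/-- A global class of a module dying on `X_π` is `π`-power torsion. -/
theorem exists_pow_smul_eq_zero [CompactSpace X] (Q : X.Modules) [Coh.IsQCoh Q] (π : R)
    (hQ : ∀ x : X, x ∈ X.basicOpen (show Γ(X, ⊤) from Coh.toGlobal (X ↘ Spec (CommRingCat.of R)) π) →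
      Subsingleton (Q.presheaf.stalk x)) (q : Coh.HH X Q 0) : ∃ n : ℕ, π ^ n • q = 0 := by
  let a : Γ(X, ⊤) := Coh.toGlobal (X ↘ Spec (CommRingCat.of R)) π
  let e := CurveLib.secOf Q
  have hs : Q.presheaf.map (homOfLE (X.basicOpen_le a)).op (e q) = 0 :=
    TopCat.Presheaf.section_ext (⟨Q.presheaf, Q.isSheaf⟩ : TopCat.Sheaf Ab X.carrier) _ _ _ fun x hx => by
      haveI := hQ x hx
      exact Subsingleton.elim (α := Q.presheaf.stalk x) _ _
  obtain ⟨n, hn⟩ := QCohLib.exists_pow_zero_of_isCompact Q (V := ⊤) isCompact_univ a (e q) hs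
  refine ⟨n, e.injective (Eq.trans ?_ (map_zero e).symm)⟩
  show CohBase.H0Equiv (⊤ : X.Opens) (Coh.toAb Q)
    (CohBase.HEquiv _ 0 (Sheaf.H.map (Coh.smulAb Q (Coh.toGlobal (X ↘ Spec (CommRingCat.of R)) (π ^ n))) 0 q)) = _
  rw [CohBase.HEquiv_map, CohBase.H0Equiv_hmap, Coh.smulAb_app]
  refine Eq.trans ?_ hn
  rw [map_pow, CohBase.sc_apply]
  exact congrArg (fun b : Γ(X, ⊤) => b • e q) rfl

variable [IsNoetherian X]

/-- Restriction to the complement of finitely many closed points of the closed fibre does not change a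
dualizing sheaf. -/
theorem bijective_res [NoZeroDivisors R] [Nontrivial R] (π : R) (hπ : π ≠ 0)
    (ω : X.Modules) (tr : Coh.HH X ω 1 →ₗ[R] R) (hω : Canon.IsRDualOver R X 1 ω tr)
    (U : X.Opens) (hfin : ((U : Set X)ᶜ).Finite) (hcl : ∀ x : X, x ∉ U → IsClosed ({x} : Set X))
    (hU : ∀ x : X, x ∈ X.basicOpen (show Γ(X, ⊤) from Coh.toGlobal (X ↘ Spec (CommRingCat.of R)) π) → x ∈ U)
    (V : X.Opens) :
    Function.Bijective (ω.presheaf.map (homOfLE (inf_le_left : V ⊓ U ≤ V)).op).hom := by
  haveI := hω.1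
  let j := U.ι
  let W := (Scheme.Modules.restrictFunctor j).obj ω
  let G := (Scheme.Modules.pushforward j).obj W
  haveI hGq : Coh.IsQCoh G := QCohLib.isQCoh_pushforward W j
  let η : ω ⟶ G := (Scheme.Modules.restrictAdjunction j).unit.app ω
  have hbij : ∀ x ∈ U, Function.Bijective (PullbackMod.stalkLin η x) := fun x hx =>
    Groth.Agent.S1575.unit_stalk_bijective j ω (by rwa [Scheme.Opens.opensRange_ι])
  have hd0 : topologicalKrullDim ((U : Set X)ᶜ : Set X) ≤ ((0 : ℕ) : WithBot ℕ∞) :=
    dim_le_zero_of_finite hfin fun x hx => hcl x hx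
  have hH1 : ∀ M : X.Modules, (∀ x ∈ U, Subsingleton (M.presheaf.stalk x)) → Subsingleton (Coh.HH X M 1) :=
    fun M hM => CurveLib.subsingleton_HH_of_support M U.2.isClosed_compl
      (fun x hx hxU => hx (hM x hxU)) hd0 one_pos
  -- no sections supported outside `U`
  haveI hmono : Mono η := by
    have hK : Coh.IsQCoh (kernel η) := (QCohLib.isQCoh_image η hω.1 hGq).1
    refine Preadditive.mono_of_kernel_zero ?_
    haveI := hH1 (kernel η) fun x hx => ⟨fun a b => by
      have hm := (PullbackMod.mono_iff_stalk (kernel.ι η)).1 inferInstance x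
      refine hm ((hbij x hx).1 ?_)
      rw [← LinearMap.comp_apply, ← LinearMap.comp_apply, ← PullbackMod.stalkLin_comp, kernel.condition,
        (PullbackMod.eq_zero_iff_stalk _).1 rfl x]
      rfl⟩
    refine (hω.2 _ hK).1 (LinearMap.ext fun z => ?_)
    rw [Subsingleton.elim z 0, map_zero, map_zero]
  let S := DevLib.cokerSeq η
  have hS : S.ShortExact := DevLib.cokerSeq_shortExact η
  have hQU : ∀ x ∈ U, Subsingleton ((cokernel η).presheaf.stalk x) := fun x hx =>
    subsingleton_of_forall_eq 0 fun q => by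
      obtain ⟨z, rfl⟩ := DevLib.coker_surjective η x q
      exact (DevLib.coker_exact η x _).2 ((hbij x hx).2 z)
  haveI : Coh.IsQCoh (cokernel η) := QCohLib.isQCoh_X₃ hS hω.1 hGq
  -- extend the trace
  have hker : LinearMap.ker (CurveLib.hMap (k := R) η 1) ≤ LinearMap.ker tr := fun x hx => by
    rw [show LinearMap.ker (CurveLib.hMap (k := R) η 1) = LinearMap.range (CurveLib.hδ (k := R) hS 0) from
      (CurveLib.range_hδ hS 0).symm] at hx
    obtain ⟨q, rfl⟩ := hx
    obtain ⟨n, hn⟩ := exists_pow_smul_eq_zero R (cokernel η) π (fun y hy => hQU y (hU y hy)) q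
    have h2 := congrArg tr (congrArg (CurveLib.hδ (k := R) hS 0) hn)
    rw [map_smul, map_smul, map_zero, map_zero, smul_eq_mul] at h2
    exact (mul_eq_zero.1 h2).resolve_left (pow_ne_zero n hπ)
  have hsurj : Function.Surjective (CurveLib.hMap (k := R) η 1) := fun y => by
    haveI : Subsingleton (Coh.HH X S.X₃ 1) := hH1 (cokernel η) hQU
    have h2 : y ∈ LinearMap.ker (CurveLib.hMap (k := R) S.g 1) := Subsingleton.elim _ _
    rw [← CurveLib.range_hMap_f hS 1] at h2
    exact h2
  let tr' : Coh.HH X G 1 →ₗ[R] R :=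
    (Submodule.liftQ _ tr hker) ∘ₗ (LinearMap.quotKerEquivOfSurjective _ hsurj).symm.toLinearMap
  obtain ⟨r, hr⟩ := (hω.2 G hGq).2 tr'
  have hret : η ≫ r = 𝟙 ω := (hω.2 ω hω.1).1 (LinearMap.ext fun x => by
    show tr (Canon.HHlin R (η ≫ r) 1 x) = tr (Canon.HHlin R (𝟙 ω) 1 x)
    have h1 : Canon.HHlin R (η ≫ r) 1 x = Canon.HHlin R r 1 (CurveLib.hMap (k := R) η 1 x) := by
      show Sheaf.H.map ((SheafOfModules.toSheaf X.ringCatSheaf).map (η ≫ r)) 1 x = _
      rw [Functor.map_comp, Sheaf.H.map_comp_apply]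
      rfl
    have h2 : Canon.HHlin R (𝟙 ω) 1 x = x := by
      show Sheaf.H.map ((SheafOfModules.toSheaf X.ringCatSheaf).map (𝟙 ω)) 1 x = x
      rw [CategoryTheory.Functor.map_id, Sheaf.H.map_id_apply]
    rw [h1, h2]
    refine (DFunLike.congr_fun hr _).trans ?_
    show Submodule.liftQ _ tr hker ((LinearMap.quotKerEquivOfSurjective _ hsurj).symm (CurveLib.hMap (k := R) η 1 x)) = tr x
    rw [show CurveLib.hMap (k := R) η 1 x = LinearMap.quotKerEquivOfSurjective _ hsurj (Submodule.Quotient.mk x) from rfl,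
      LinearEquiv.symm_apply_apply]
    rfl)
  -- `G` has no sections supported outside `U`
  let adj := Scheme.Modules.restrictAdjunction j
  haveI : IsIso ((Scheme.Modules.restrictFunctor j).map η) :=
    haveI : IsIso ((Scheme.Modules.restrictFunctor j).map η ≫ adj.counit.app W) := by
      have e := adj.left_triangle_components ω
      exact e ▸ (inferInstance : IsIso (𝟙 ((Scheme.Modules.restrictFunctor j).obj ω)))
    IsIso.of_isIso_comp_right _ (adj.counit.app W)
  haveI : IsIso η := by
    refine ⟨r, hret, sub_eq_zero.1 ?_⟩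
    have hz : η ≫ (r ≫ η - 𝟙 G) = 0 := by
      rw [Preadditive.comp_sub, ← Category.assoc, hret, Category.id_comp, Category.comp_id, sub_self]
    apply (adj.homEquiv G W).symm.injective
    rw [adj.homEquiv_counit, adj.homEquiv_counit]
    refine congrArg (· ≫ adj.counit.app W) ?_
    rw [← cancel_epi ((Scheme.Modules.restrictFunctor j).map η), ← Functor.map_comp, ← Functor.map_comp, hz,
      comp_zero]
  exact bijective_of_isIso_unit ω U V ‹IsIso η›

end Groth.Agent.ModelDual
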