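import Groth.Agent.ModelDual.Extend
import Groth.Prelude.Def_Models

/-!
# The generic fibre of a model
-/

set_option autoImplicit false
set_option linter.style.haveILetI false
set_option backward.isDefEq.respectTransparency false
set_option maxHeartbeats 1000000

universe u

open CategoryTheory CategoryTheory.Limits AlgebraicGeometry TopologicalSpace

noncomputable section

namespace Groth.Agent.ModelDual

variable (R : Type u) [CommRing R] [IsDomain R] [IsDiscreteValuationRing R] {π : R} (hπ : Irreducible π)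

include hπ in
theorem isLocalization_away : IsLocalization.Away π (FractionRing R) := by
  refine IsLocalization.Away.mk π (isUnit_iff_ne_zero.2 fun h => hπ.ne_zero
    (IsFractionRing.injective R (FractionRing R) (h.trans (map_zero _).symm))) (fun z => ?_)
    (fun a b h => ⟨0, by simpa using IsFractionRing.injective R (FractionRing R) h⟩)
  obtain ⟨⟨a, d, hd⟩, hz⟩ := IsLocalization.surj (nonZeroDivisors R) z
  obtain ⟨n, u, rfl⟩ := IsDiscreteValuationRing.eq_unit_mul_pow_irreducible (nonZeroDivisors.ne_zero hd) hπ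
  refine ⟨n, ↑u⁻¹ * a, ?_⟩
  have hz' : z * algebraMap R (FractionRing R) (↑u * π ^ n) = algebraMap R (FractionRing R) a := hz
  rw [map_mul, ← hz', ← map_pow, ← mul_assoc, mul_comm (algebraMap R _ ↑u⁻¹) z, mul_assoc, ← map_mul]
  congr 2
  rw [← mul_assoc, ← Units.val_mul, inv_mul_cancel, Units.val_one, one_mul]

variable {X C : Scheme.{u}} [X.Over (Spec (CommRingCat.of R))]
  {f : C ⟶ Spec (CommRingCat.of (FractionRing R))} {g : C ⟶ X}
  (hg : IsPullback g f (X ↘ Spec (CommRingCat.of R))
    (Spec.map (CommRingCat.ofHom (algebraMap R (FractionRing R)))))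

include hπ hg in
theorem isOpenImmersion_g : IsOpenImmersion g := by
  haveI := isLocalization_away R hπ
  haveI : IsOpenImmersion (Spec.map (CommRingCat.ofHom (algebraMap R (FractionRing R)))) :=
    IsOpenImmersion.of_isLocalization π
  exact MorphismProperty.of_isPullback hg.flip inferInstance

include hπ hg in
theorem range_g :
    Set.range g = (X.basicOpen (show Γ(X, ⊤) from Coh.toGlobal (X ↘ Spec (CommRingCat.of R)) π) : Set X) := by
  haveI := isLocalization_away R hπ
  have h1 : Set.range g = (X ↘ Spec (CommRingCat.of R)) ⁻¹' Set.range (Spec.map (CommRingCat.ofHom (algebraMap R (FractionRing R)))) :=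
    by rw [← Scheme.Pullback.range_fst, ← hg.isoPullback_hom_fst]
       simp only [Scheme.Hom.comp_base, TopCat.coe_comp, Set.range_comp, Set.range_eq_univ.2
         (Scheme.Hom.surjective hg.isoPullback.hom), Set.image_univ]
  rw [h1]
  have h2 : Set.range (Spec.map (CommRingCat.ofHom (algebraMap R (FractionRing R)))) =
      (PrimeSpectrum.basicOpen π : Set (PrimeSpectrum R)) := PrimeSpectrum.localization_away_comap_range _ π
  rw [h2]
  have h3 := congrArg (fun U : X.Opens => (U : Set X))
    (Scheme.preimage_basicOpen (X ↘ Spec (CommRingCat.of R)) ((Scheme.ΓSpecIso (CommRingCat.of R)).inv π))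
  rw [show (Spec (CommRingCat.of R)).basicOpen ((Scheme.ΓSpecIso (CommRingCat.of R)).inv π) = PrimeSpectrum.basicOpen π
    from basicOpen_eq_of_affine (R := CommRingCat.of R) π] at h3
  exact h3

omit [IsDomain R] [IsDiscreteValuationRing R] in
/-- Functions on a flat scheme over a domain have no `π`-torsion. -/
theorem smul_eq_zero_of_flat [IsDomain R] [Flat (X ↘ Spec (CommRingCat.of R))] {b : R} (hb : b ≠ 0)
    (γ : Γ(X, ⊤)) (h : (show Γ(X, ⊤) from Coh.toGlobal (X ↘ Spec (CommRingCat.of R)) b) * γ = 0) : γ = 0 := by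
  refine TopCat.Sheaf.eq_of_locally_eq' X.sheaf (fun W : X.affineOpens => W.1) ⊤ (fun W => homOfLE le_top)
    (fun x _ => ?_) _ _ fun W => ?_
  · obtain ⟨_, ⟨W, hW, rfl⟩, hxW, -⟩ := X.isBasis_affineOpens.exists_subset_of_mem_open (Set.mem_univ x) isOpen_univ
    exact Opens.mem_iSup.2 ⟨⟨W, hW⟩, hxW⟩
  let p := X ↘ Spec (CommRingCat.of R)
  have hfl : (p.appLE ⊤ W.1 le_top).hom.Flat :=
    HasRingHomProperty.appLE (P := @Flat) p inferInstance ⟨⊤, isAffineOpen_top _⟩ W le_top
  let φ : R →+* Γ(X, W.1) := (p.appLE ⊤ W.1 le_top).hom.comp (Scheme.ΓSpecIso (CommRingCat.of R)).inv.hom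
  have hφ : φ.Flat := RingHom.Flat.comp
    (RingHom.Flat.of_bijective (ConcreteCategory.bijective_of_isIso (Scheme.ΓSpecIso (CommRingCat.of R)).inv)) hfl
  letI := φ.toAlgebra
  haveI : Module.Flat R Γ(X, W.1) := hφ
  have hreg : IsSMulRegular Γ(X, W.1) b := Module.Flat.isSMulRegular_of_nonZeroDivisors
    (mem_nonZeroDivisors_of_ne_zero hb)
  show X.presheaf.map (homOfLE le_top).op γ = X.presheaf.map (homOfLE le_top).op 0
  rw [map_zero]
  refine hreg (Eq.trans ?_ (smul_zero b).symm)
  show φ b * X.presheaf.map (homOfLE (le_top : W.1 ≤ ⊤)).op γ = 0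
  have h2 := congrArg (X.presheaf.map (homOfLE (le_top : W.1 ≤ ⊤)).op) h
  rw [map_mul, map_zero] at h2
  rw [← h2]
  rfl

include hπ hg in
/-- A global function vanishing on the generic fibre is zero. -/
theorem appTop_injective [Flat (X ↘ Spec (CommRingCat.of R))] [CompactSpace X] :
    Function.Injective g.appTop := by
  haveI := isOpenImmersion_g R hπ hg
  refine (injective_iff_map_eq_zero _).2 fun γ hγ => ?_
  let a : Γ(X, ⊤) := Coh.toGlobal (X ↘ Spec (CommRingCat.of R)) π
  have h0 : X.presheaf.map (homOfLE (X.basicOpen_le a)).op γ = 0 := by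
    have hle : X.basicOpen a ≤ g.opensRange := fun x hx => (range_g R hπ hg).ge hx
    have h1 : g.app g.opensRange (X.presheaf.map (homOfLE (le_top : g.opensRange ≤ ⊤)).op γ) = 0 := by
      have h2 := g.naturality (homOfLE (le_top : g.opensRange ≤ ⊤)).op
      have h3 := ConcreteCategory.congr_hom h2 γ
      refine h3.trans ?_
      show (C.presheaf.map _) (g.appTop γ) = 0
      rw [hγ, map_zero]
    haveI := g.isIso_app g.opensRange le_rfl
    have h4 : X.presheaf.map (homOfLE (le_top : g.opensRange ≤ ⊤)).op γ = 0 :=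
      (ConcreteCategory.bijective_of_isIso (g.app g.opensRange)).1 (h1.trans (map_zero _).symm)
    rw [show (homOfLE (X.basicOpen_le a)).op = (homOfLE (le_top : g.opensRange ≤ ⊤)).op ≫ (homOfLE hle).op from
      Subsingleton.elim _ _, Functor.map_comp, ConcreteCategory.comp_apply, h4, map_zero]
  obtain ⟨n, hn⟩ := QCohLib.exists_pow_zero_of_isCompact (Coh.structureModule X) (V := ⊤) isCompact_univ a γ h0
  refine smul_eq_zero_of_flat R (pow_ne_zero n hπ.ne_zero) γ (Eq.trans ?_ hn)
  rw [map_pow, CohBase.sc_apply]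
  show a ^ n * γ = _ * γ
  congr 1
  exact (ConcreteCategory.congr_hom (X.presheaf.map_id _) _).symm

end Groth.Agent.ModelDual
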