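import Groth.Agent.ModelDual.Generic
import Groth.Agent.ModelDual.Pairing

/-!
# A class in degree one which is not torsion
-/

set_option autoImplicit false
set_option linter.style.haveILetI false
set_option backward.isDefEq.respectTransparency false
set_option maxHeartbeats 1000000

universe u

open CategoryTheory CategoryTheory.Limits AlgebraicGeometry TopologicalSpace

noncomputable section

namespace Groth.Agent.ModelDual

open Groth.Agent.PullbackMod Groth.Agent.CurveLib

variable {X : Scheme.{u}}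

/-- The residue field at a point, as a module. -/
abbrev resMod (y : X) : X.Modules :=
  (Scheme.Modules.pushforward (X.fromSpecResidueField y)).obj (Coh.structureModule (Spec (X.residueField y)))

/-- Evaluation at a point. -/
def evMod (y : X) : Coh.structureModule X ⟶ resMod y :=
  DCohLib.secHom (resMod y) (show Γ(resMod y, ⊤) from (1 : Γ(Spec (X.residueField y), (X.fromSpecResidueField y) ⁻¹ᵁ ⊤)))

theorem subsingleton_sections_resMod (y : X) (V : X.Opens) (hy : y ∉ V) : Subsingleton Γ(resMod y, V) := by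
  have hF : ∀ a b : Γ(Spec (X.residueField y), (X.fromSpecResidueField y) ⁻¹ᵁ V), a = b := fun a b =>
    TopCat.Presheaf.section_ext (Spec (X.residueField y)).sheaf _ a b fun z hz => by
      refine absurd ?_ hy
      have hm : X.fromSpecResidueField y z ∈ V := hz
      rwa [Scheme.fromSpecResidueField_apply] at hm
  exact ⟨hF⟩

theorem subsingleton_stalk_resMod (y x : X) (hx : x ∉ closure ({y} : Set X)) :
    Subsingleton ((resMod y).presheaf.stalk x) := by
  refine subsingleton_of_forall_eq 0 fun z => ?_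
  obtain ⟨W, hxW, m, rfl⟩ := TopCat.Presheaf.exists_germ_eq (resMod y).presheaf z
  let V : X.Opens := W ⊓ ⟨(closure ({y} : Set X))ᶜ, isClosed_closure.isOpen_compl⟩
  haveI := subsingleton_sections_resMod y V fun h => h.2 (subset_closure rfl)
  rw [← TopCat.Presheaf.germ_res_apply (resMod y).presheaf (homOfLE (inf_le_left : V ≤ W)) x ⟨hxW, hx⟩ m,
    Subsingleton.elim ((resMod y).presheaf.map _ m) 0, map_zero]

theorem germ_one_ne_zero (y : X) :
    (resMod y).presheaf.germ ⊤ y trivial (AmpleLib.sec (evMod y)) ≠ 0 := fun h => by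
  obtain ⟨W, hyW, i, i', hW⟩ := TopCat.Presheaf.germ_eq (resMod y).presheaf (U := ⊤) (V := ⊤) y trivial trivial _ 0
    (h.trans (map_zero _).symm)
  rw [map_zero] at hW
  let z : Spec (X.residueField y) := default
  have hz : z ∈ (X.fromSpecResidueField y) ⁻¹ᵁ W := by
    show X.fromSpecResidueField y z ∈ W
    rwa [Scheme.fromSpecResidueField_apply]
  have h1 : AmpleLib.sec (evMod y) = (show Γ(resMod y, ⊤) from (1 : Γ(Spec (X.residueField y), (X.fromSpecResidueField y) ⁻¹ᵁ ⊤))) :=
    AmpleLib.sec_secHom (L := resMod y) _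
  rw [h1] at hW
  have h2 : (1 : Γ(Spec (X.residueField y), (X.fromSpecResidueField y) ⁻¹ᵁ W)) = 0 :=
    Eq.trans (map_one ((Spec (X.residueField y)).presheaf.map ((Opens.map (X.fromSpecResidueField y).base).map i).op).hom).symm hW
  have h3 := congrArg ((Spec (X.residueField y)).presheaf.germ _ z hz) h2
  rw [map_one, map_zero] at h3
  exact one_ne_zero h3

instance isQCoh_resMod [QuasiSeparatedSpace X] (y : X) : Coh.IsQCoh (resMod y) := by
  haveI : QuasiSeparated (X.fromSpecResidueField y) := inferInstance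
  exact QCohLib.isQCoh_pushforward _ _

variable (R : Type u) [CommRing R] [IsDomain R] [IsDiscreteValuationRing R] [X.Over (Spec (CommRingCat.of R))]

/-- An element without linear forms not vanishing on it is torsion. -/
theorem exists_smul_eq_zero_of_dual {M : Type u} [AddCommGroup M] [Module R M] [Module.Finite R M]
    (h : ∀ φ : Module.Dual R M, φ = 0) (x : M) : ∃ m : R, m ≠ 0 ∧ m • x = 0 := by
  by_contra hne
  let T := Submodule.torsion R M
  haveI : Module.Free R (M ⧸ T) := Module.free_of_finite_type_torsion_free'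
  have hx : T.mkQ x ≠ 0 := fun h0 => by
    obtain ⟨⟨m, hm⟩, hmx⟩ := (Submodule.mem_torsion_iff x).1 ((Submodule.Quotient.mk_eq_zero T).1 h0)
    exact hne ⟨m, nonZeroDivisors.ne_zero hm, hmx⟩
  refine hx ((Module.Free.chooseBasis R (M ⧸ T)).forall_coord_eq_zero_iff.1 fun i => ?_)
  exact DFunLike.congr_fun (h ((Module.Free.chooseBasis R (M ⧸ T)).coord i ∘ₗ T.mkQ)) x

variable [IsNoetherian X] [Flat (X ↘ Spec (CommRingCat.of R))] [IsProper (X ↘ Spec (CommRingCat.of R))]

/-- The trace of a dualizing pair is not zero on a model with two closed points on the generic fibre. -/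
theorem nontrivial_H1 {π : R} (hπ : Irreducible π) (ω : X.Modules) (tr : Coh.HH X ω 1 →ₗ[R] R)
    (hω : Canon.IsRDualOver R X 1 ω tr) (y₁ y₂ : X)
    (hy₂ : y₂ ∈ X.basicOpen (show Γ(X, ⊤) from Coh.toGlobal (X ↘ Spec (CommRingCat.of R)) π))
    (hne : y₂ ∉ closure ({y₁} : Set X))
    (hcl : ∀ x ∈ X.basicOpen (show Γ(X, ⊤) from Coh.toGlobal (X ↘ Spec (CommRingCat.of R)) π),
      x ∈ closure ({y₂} : Set X) → x = y₂)
    (hconst : ∀ γ : Γ(X, ⊤), (evMod y₁).app ⊤ γ = 0 → γ = 0) :
    Nontrivial (Coh.HH X ω 1) := by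
  by_contra hsub
  rw [not_nontrivial_iff_subsingleton] at hsub
  let a : Γ(X, ⊤) := Coh.toGlobal (X ↘ Spec (CommRingCat.of R)) π
  let J₁ := kernel (evMod y₁)
  have hO : Coh.IsQCoh (Coh.structureModule X) := inferInstance
  have hJ₁ : Coh.IsQCoh J₁ := (QCohLib.isQCoh_image (evMod y₁) hO inferInstance).1
  let θ : J₁ ⟶ resMod y₂ := kernel.ι (evMod y₁) ≫ evMod y₂
  let Q := kernel (cokernel.π θ)
  have hG : Coh.IsQCoh (resMod y₂) := inferInstance
  haveI hQ : Coh.IsQCoh Q :=
    (QCohLib.isQCoh_image (cokernel.π θ) hG (QCohLib.isQCoh_image θ hJ₁ hG).2).1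
  let θ' : J₁ ⟶ Q := Abelian.factorThruImage θ
  let S := ShortComplex.mk (kernel.ι θ') θ' (kernel.condition θ')
  have hS : S.ShortExact :=
    { exact := ShortComplex.exact_of_f_is_kernel _ (kernelIsKernel θ')
      epi_g := inferInstanceAs (Epi (Abelian.factorThruImage θ)) }
  have happ : ∀ {A B : X.Modules} (ψ : A ⟶ B) [Mono ψ] (V : X.Opens), Function.Injective (ψ.app V) :=
    fun {A B} ψ _ V u v huv => TopCat.Presheaf.section_ext (⟨A.presheaf, A.isSheaf⟩ : TopCat.Sheaf Ab X.carrier) V u v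
      fun x hx => (mono_iff_stalk ψ).1 inferInstance x (by
        rw [stalkLin_germ, stalkLin_germ, huv])
  -- the section `1` at `y₂`
  let W : X.Opens := ⟨(closure ({y₁} : Set X))ᶜ, isClosed_closure.isOpen_compl⟩
  haveI := subsingleton_sections_resMod y₁ W fun h => h (subset_closure rfl)
  obtain ⟨t, ht⟩ := QCohLib.kernel_app_exact (evMod y₁) W (1 : Γ(X, W)) (Subsingleton.elim _ _)
  let D : X.Opens := X.basicOpen a
  let g₀ : Γ(resMod y₂, D) := (resMod y₂).presheaf.map (homOfLE (le_top : D ≤ ⊤)).op (AmpleLib.sec (evMod y₂))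
  have hg₀ : (cokernel.π θ).app D g₀ = 0 :=
    TopCat.Presheaf.section_ext (⟨(cokernel θ).presheaf, (cokernel θ).isSheaf⟩ : TopCat.Sheaf Ab X.carrier) D _ 0
      fun x hx => by
        show (cokernel θ).presheaf.germ D x hx _ = (cokernel θ).presheaf.germ D x hx 0
        rw [map_zero, ← stalkLin_germ]
        by_cases hxy : x ∈ closure ({y₂} : Set X)
        · obtain rfl := hcl x hx hxy
          have h1 : (resMod x).presheaf.germ D x hx g₀ = stalkLin θ x (J₁.presheaf.germ W x hne t) := by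
            rw [TopCat.Presheaf.germ_res_apply, stalkLin_germ]
            show _ = (resMod x).presheaf.germ W x hne ((evMod x).app W ((kernel.ι (evMod y₁)).app W t))
            rw [ht, ← DCohLib.app_one_natural (evMod x) (le_top : W ≤ ⊤), TopCat.Presheaf.germ_res_apply]
            rfl
          rw [h1, ← LinearMap.comp_apply, ← stalkLin_comp, cokernel.condition, (eq_zero_iff_stalk _).1 rfl x]
          rfl
        · haveI := subsingleton_stalk_resMod y₂ x hxy
          rw [Subsingleton.elim ((resMod y₂).presheaf.germ D x hx g₀) 0, map_zero]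
  obtain ⟨t', ht'⟩ := QCohLib.kernel_app_exact (cokernel.π θ) D g₀ hg₀
  obtain ⟨n, e, he⟩ := QCohLib.exists_pow_extend_of_isQuasiSeparated Q (V := ⊤) isCompact_univ
    isQuasiSeparated_univ a t'
  -- it is torsion
  have hd : ∀ φ : Module.Dual R (Coh.HH X (kernel θ') 1), φ = 0 := fun φ => by
    have hJ : Coh.IsQCoh (kernel θ') := (QCohLib.isQCoh_image θ' hJ₁ hQ).1
    obtain ⟨ψ, hψ⟩ := (hω.2 _ hJ).2 φ
    rw [← hψ]
    refine LinearMap.ext fun z => ?_
    show tr (Canon.HHlin R ψ 1 z) = 0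
    rw [Subsingleton.elim (Canon.HHlin R ψ 1 z) 0, map_zero]
  let c : Coh.HH X Q 0 := (secOf Q).symm e
  have hJc : Coh.IsCoh (kernel θ') :=
    ⟨(QCohLib.isQCoh_image θ' hJ₁ hQ).1, (QCohLib.isCoh_of_mono (kernel.ι θ' ≫ kernel.ι (evMod y₁))
      (DevLib.isCoh_structureModule X) (QCohLib.isQCoh_image θ' hJ₁ hQ).1).2⟩
  haveI : Module.Finite R (Coh.HH X (kernel θ') 1) :=
    ProperFin.allFin_of_isCoh (A := R) (X ↘ Spec (CommRingCat.of R)) _ hJc 1
  obtain ⟨m, hm, hmc⟩ := exists_smul_eq_zero_of_dual R hd (hδ (k := R) hS 0 c)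
  have hmc' : m • c ∈ LinearMap.range (hMap (k := R) S.g 0) := by
    rw [range_hMap_g hS 0, LinearMap.mem_ker, map_smul]
    exact hmc
  obtain ⟨b, hb⟩ := hmc'
  have hb0 : b = 0 := by
    have h1 : (kernel.ι (evMod y₁)).app ⊤ (secOf J₁ b) = 0 := by
      refine hconst _ ?_
      have h2 : ((kernel.ι (evMod y₁)) ≫ evMod y₁).app ⊤ (secOf J₁ b) = 0 := by
        rw [kernel.condition, Scheme.Modules.Hom.zero_app]
        rfl
      exact h2
    exact (secOf J₁).injective ((happ (kernel.ι (evMod y₁)) ⊤ (h1.trans (map_zero _).symm)).trans (map_zero _).symm)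
  rw [hb0, map_zero] at hb
  let μ : Γ(X, ⊤) := Coh.toGlobal (X ↘ Spec (CommRingCat.of R)) m
  have h3 : μ • e = 0 := by
    have h4 := congrArg (secOf Q) hb.symm
    rw [map_zero] at h4
    exact (congrArg (μ • ·) ((secOf Q).apply_symm_apply e).symm).trans ((secOf_smulAb Q μ c).symm.trans h4)
  have h5 := congrArg (Q.presheaf.map (homOfLE (X.basicOpen_le a)).op) h3
  rw [Q.map_smul, map_zero, he] at h5
  have h6 := congrArg (fun z => (kernel.ι (cokernel.π θ)).app D z) h5
  simp only [map_zero] at h6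
  rw [Scheme.Modules.Hom.app_smul, QCohLib.app_sc, ht', CohBase.sc_apply] at h6
  have h7 := congrArg ((resMod y₂).presheaf.germ D y₂ hy₂) h6
  rw [map_zero, ParaFLib.germ_smul', ParaFLib.germ_smul', TopCat.Presheaf.germ_res_apply, TopCat.Presheaf.germ_res_apply,
    TopCat.Presheaf.germ_res_apply, map_pow, smul_smul] at h7
  have hau : IsUnit (X.presheaf.germ ⊤ y₂ trivial a) := (Scheme.mem_basicOpen X a y₂ trivial).1 hy₂
  have hu : IsUnit (X.presheaf.germ ⊤ y₂ trivial μ * X.presheaf.germ ⊤ y₂ trivial a ^ n) := by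
    obtain ⟨k, u, rfl⟩ := IsDiscreteValuationRing.eq_unit_mul_pow_irreducible hm hπ
    refine IsUnit.mul ?_ (hau.pow n)
    show IsUnit (X.presheaf.germ ⊤ y₂ trivial (Coh.toGlobal (X ↘ Spec (CommRingCat.of R)) (↑u * π ^ k)))
    rw [map_mul, map_mul, map_pow, map_pow]
    exact ((u.isUnit.map _).map _).mul (hau.pow k)
  exact germ_one_ne_zero y₂ (hu.smul_eq_zero.1 h7)

end Groth.Agent.ModelDual
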